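import Mathlib

/-!
# S4842, F4: the numbers of the two mixed reflection modules of the Hecke algebra (helper448)

For the module `(+,-)` (`A`) and its mirror `(-,+)` (`B`), with `r = q⁻¹`, the values `η (N_d v)` and
`ξ (N_{d⁻¹} u)` for the five minimal double coset representatives `d` with regular double coset, and the
degree identity.
-/

set_option autoImplicit false

namespace Cfsg.Agent.H448.FF

open Module

variable {r : ℂ} {N : Fin 4 → Module.End ℂ (Fin 4 → ℂ)}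

/-- the functional `ξ` of the module `(+,-)` -/
def xiA (r : ℂ) : (Fin 4 → ℂ) →ₗ[ℂ] ℂ := LinearMap.proj 2 + (1 + r) • LinearMap.proj 3

/-- the functional `η` of the module `(+,-)` -/
def etaA (r : ℂ) : (Fin 4 → ℂ) →ₗ[ℂ] ℂ := (-(1 + r)) • LinearMap.proj 0 + r • LinearMap.proj 1

/-- the functional `ξ` of the module `(-,+)` -/
def xiB (r : ℂ) : (Fin 4 → ℂ) →ₗ[ℂ] ℂ := (1 + r) • LinearMap.proj 0 + r • LinearMap.proj 1

/-- the functional `η` of the module `(-,+)` -/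
def etaB (r : ℂ) : (Fin 4 → ℂ) →ₗ[ℂ] ℂ := LinearMap.proj 2 + (-(1 + r)) • LinearMap.proj 3

theorem xiA_apply (x : Fin 4 → ℂ) : xiA r x = x 2 + (1 + r) * x 3 := rfl
theorem etaA_apply (x : Fin 4 → ℂ) : etaA r x = -(1 + r) * x 0 + r * x 1 := rfl
theorem xiB_apply (x : Fin 4 → ℂ) : xiB r x = (1 + r) * x 0 + r * x 1 := rfl
theorem etaB_apply (x : Fin 4 → ℂ) : etaB r x = x 2 + -(1 + r) * x 3 := rfl

theorem xiA_vec (a b c d : ℂ) : xiA r ![a, b, c, d] = c + (1 + r) * d := rfl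
theorem etaA_vec (a b c d : ℂ) : etaA r ![a, b, c, d] = -(1 + r) * a + r * b := rfl
theorem xiB_vec (a b c d : ℂ) : xiB r ![a, b, c, d] = (1 + r) * a + r * b := rfl
theorem etaB_vec (a b c d : ℂ) : etaB r ![a, b, c, d] = c + -(1 + r) * d := rfl

section A

variable (h0 : ∀ x, N 0 x = ![-r * x 0 + r * x 1, x 1, x 2, x 3]) (h1 : ∀ x, N 1 x = ![x 0, x 0 - r * x 1 - (1 + r^2) * x 2, x 2, x 3]) (h2 : ∀ x, N 2 x = ![-r * x 0, -r * x 1, x 1 + x 2 + r * x 3, -r * x 3]) (h3 : ∀ x, N 3 x = ![-r * x 0, -r * x 1, -r * x 2, x 2 + x 3])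

include h0 in
theorem sA0 {a b c d a' b' c' d' : ℂ} (e0 : -r * a + r * b = a') (e1 : b = b') (e2 : c = c') (e3 : d = d') :
    N 0 ![a, b, c, d] = ![a', b', c', d'] := by
  rw [h0, ← e0, ← e1, ← e2, ← e3]
  rfl

include h1 in
theorem sA1 {a b c d a' b' c' d' : ℂ} (e0 : a = a') (e1 : a - r * b - (1 + r^2) * c = b') (e2 : c = c') (e3 : d = d') :
    N 1 ![a, b, c, d] = ![a', b', c', d'] := by
  rw [h1, ← e0, ← e1, ← e2, ← e3]
  rfl

include h2 in
theorem sA2 {a b c d a' b' c' d' : ℂ} (e0 : -r * a = a') (e1 : -r * b = b') (e2 : b + c + r * d = c') (e3 : -r * d = d') :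
    N 2 ![a, b, c, d] = ![a', b', c', d'] := by
  rw [h2, ← e0, ← e1, ← e2, ← e3]
  rfl

include h3 in
theorem sA3 {a b c d a' b' c' d' : ℂ} (e0 : -r * a = a') (e1 : -r * b = b') (e2 : -r * c = c') (e3 : c + d = d') :
    N 3 ![a, b, c, d] = ![a', b', c', d'] := by
  rw [h3, ← e0, ← e1, ← e2, ← e3]
  rfl

include h0 in
theorem xiA_0 (x : Fin 4 → ℂ) : xiA r (N 0 x) = xiA r x := by
  rw [h0, xiA_vec, xiA_apply] <;> ring

include h1 in
theorem xiA_1 (x : Fin 4 → ℂ) : xiA r (N 1 x) = xiA r x := by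
  rw [h1, xiA_vec, xiA_apply] <;> ring

include h3 in
theorem xiA_3 (x : Fin 4 → ℂ) : xiA r (N 3 x) = xiA r x := by
  rw [h3, xiA_vec, xiA_apply] <;> ring

include h0 in
theorem etaA_0 (x : Fin 4 → ℂ) : etaA r (N 0 x) = -r * etaA r x := by
  rw [h0, etaA_vec, etaA_apply] <;> ring

include h2 in
theorem etaA_2 (x : Fin 4 → ℂ) : etaA r (N 2 x) = -r * etaA r x := by
  rw [h2, etaA_vec, etaA_apply] <;> ring

include h3 in
theorem etaA_3 (x : Fin 4 → ℂ) : etaA r (N 3 x) = -r * etaA r x := by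
  rw [h3, etaA_vec, etaA_apply] <;> ring

include h0 in
theorem vA_0 : N 0 ![0, 0, 0, 1] = ![0, 0, 0, 1] := by
  exact sA0 h0 (by ring) (by ring) (by ring) (by ring)

include h1 in
theorem vA_1 : N 1 ![0, 0, 0, 1] = ![0, 0, 0, 1] := by
  exact sA1 h1 (by ring) (by ring) (by ring) (by ring)

include h3 in
theorem vA_3 : N 3 ![0, 0, 0, 1] = ![0, 0, 0, 1] := by
  exact sA3 h3 (by ring) (by ring) (by ring) (by ring)

include h0 in
theorem uA_0 : N 0 ![1, 0, 0, 0] = (-r) • ![1, 0, 0, 0] := by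
  rw [sA0 h0 (a' := -r * 1) (b' := -r * 0) (c' := -r * 0) (d' := -r * 0) (by ring) (by ring) (by ring) (by ring)]
  ext i
  fin_cases i <;> simp

include h2 in
theorem uA_2 : N 2 ![1, 0, 0, 0] = (-r) • ![1, 0, 0, 0] := by
  rw [sA2 h2 (a' := -r * 1) (b' := -r * 0) (c' := -r * 0) (d' := -r * 0) (by ring) (by ring) (by ring) (by ring)]
  ext i
  fin_cases i <;> simp

include h3 in
theorem uA_3 : N 3 ![1, 0, 0, 0] = (-r) • ![1, 0, 0, 0] := by
  rw [sA3 h3 (a' := -r * 1) (b' := -r * 0) (c' := -r * 0) (d' := -r * 0) (by ring) (by ring) (by ring) (by ring)]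
  ext i
  fin_cases i <;> simp

include h1 h2 in
theorem etaNA0 : etaA r ((([1, 2] : List (Fin 4)).map N).prod ![0, 0, 0, 1]) = -r^2 - r^4 := by
  simp only [List.map_cons, List.map_nil, List.prod_cons, List.prod_nil, mul_one, Module.End.mul_apply]
  rw [sA2 h2 (a' := 0) (b' := 0) (c' := r) (d' := -r) (by ring) (by ring) (by ring) (by ring)]
  rw [sA1 h1 (a' := 0) (b' := -r - r^3) (c' := r) (d' := -r) (by ring) (by ring) (by ring) (by ring)]
  rw [etaA_vec]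
  ring

include h1 h2 in
theorem xiNA0 : xiA r ((([2, 1] : List (Fin 4)).map N).prod ![1, 0, 0, 0]) = 1 := by
  simp only [List.map_cons, List.map_nil, List.prod_cons, List.prod_nil, mul_one, Module.End.mul_apply]
  rw [sA1 h1 (a' := 1) (b' := 1) (c' := 0) (d' := 0) (by ring) (by ring) (by ring) (by ring)]
  rw [sA2 h2 (a' := -r) (b' := -r) (c' := 1) (d' := 0) (by ring) (by ring) (by ring) (by ring)]
  rw [xiA_vec]
  ring

include h0 h1 h2 h3 in
theorem etaNA1 : etaA r ((([1, 2, 3, 0, 1, 2] : List (Fin 4)).map N).prod ![0, 0, 0, 1]) = r^4 + r^6 := by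
  simp only [List.map_cons, List.map_nil, List.prod_cons, List.prod_nil, mul_one, Module.End.mul_apply]
  rw [sA2 h2 (a' := 0) (b' := 0) (c' := r) (d' := -r) (by ring) (by ring) (by ring) (by ring)]
  rw [sA1 h1 (a' := 0) (b' := -r - r^3) (c' := r) (d' := -r) (by ring) (by ring) (by ring) (by ring)]
  rw [sA0 h0 (a' := -r^2 - r^4) (b' := -r - r^3) (c' := r) (d' := -r) (by ring) (by ring) (by ring) (by ring)]
  rw [sA3 h3 (a' := r^3 + r^5) (b' := r^2 + r^4) (c' := -r^2) (d' := 0) (by ring) (by ring) (by ring) (by ring)]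
  rw [sA2 h2 (a' := -r^4 - r^6) (b' := -r^3 - r^5) (c' := r^4) (d' := 0) (by ring) (by ring) (by ring) (by ring)]
  rw [sA1 h1 (a' := -r^4 - r^6) (b' := -r^4 - r^6) (c' := r^4) (d' := 0) (by ring) (by ring) (by ring) (by ring)]
  rw [etaA_vec]
  ring

include h0 h1 h2 h3 in
theorem xiNA1 : xiA r ((([2, 1, 0, 3, 2, 1] : List (Fin 4)).map N).prod ![1, 0, 0, 0]) = -r^2 := by
  simp only [List.map_cons, List.map_nil, List.prod_cons, List.prod_nil, mul_one, Module.End.mul_apply]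
  rw [sA1 h1 (a' := 1) (b' := 1) (c' := 0) (d' := 0) (by ring) (by ring) (by ring) (by ring)]
  rw [sA2 h2 (a' := -r) (b' := -r) (c' := 1) (d' := 0) (by ring) (by ring) (by ring) (by ring)]
  rw [sA3 h3 (a' := r^2) (b' := r^2) (c' := -r) (d' := 1) (by ring) (by ring) (by ring) (by ring)]
  rw [sA0 h0 (a' := 0) (b' := r^2) (c' := -r) (d' := 1) (by ring) (by ring) (by ring) (by ring)]
  rw [sA1 h1 (a' := 0) (b' := r) (c' := -r) (d' := 1) (by ring) (by ring) (by ring) (by ring)]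
  rw [sA2 h2 (a' := 0) (b' := -r^2) (c' := r) (d' := -r) (by ring) (by ring) (by ring) (by ring)]
  rw [xiA_vec]
  ring

include h0 h1 h2 h3 in
theorem etaNA2 : etaA r ((([1, 2, 3, 1, 2, 0, 1, 2] : List (Fin 4)).map N).prod ![0, 0, 0, 1]) = 0 := by
  simp only [List.map_cons, List.map_nil, List.prod_cons, List.prod_nil, mul_one, Module.End.mul_apply]
  rw [sA2 h2 (a' := 0) (b' := 0) (c' := r) (d' := -r) (by ring) (by ring) (by ring) (by ring)]
  rw [sA1 h1 (a' := 0) (b' := -r - r^3) (c' := r) (d' := -r) (by ring) (by ring) (by ring) (by ring)]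
  rw [sA0 h0 (a' := -r^2 - r^4) (b' := -r - r^3) (c' := r) (d' := -r) (by ring) (by ring) (by ring) (by ring)]
  rw [sA2 h2 (a' := r^3 + r^5) (b' := r^2 + r^4) (c' := -r^2 - r^3) (d' := r^2) (by ring) (by ring) (by ring) (by ring)]
  rw [sA1 h1 (a' := r^3 + r^5) (b' := r^2 + r^3 + r^4 + r^5) (c' := -r^2 - r^3) (d' := r^2) (by ring) (by ring) (by ring) (by ring)]
  rw [sA3 h3 (a' := -r^4 - r^6) (b' := -r^3 - r^4 - r^5 - r^6) (c' := r^3 + r^4) (d' := -r^3) (by ring) (by ring) (by ring) (by ring)]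
  rw [sA2 h2 (a' := r^5 + r^7) (b' := r^4 + r^5 + r^6 + r^7) (c' := -r^4 - r^5 - r^6) (d' := r^4) (by ring) (by ring) (by ring) (by ring)]
  rw [sA1 h1 (a' := r^5 + r^7) (b' := r^4 + r^5 + r^6 + r^7) (c' := -r^4 - r^5 - r^6) (d' := r^4) (by ring) (by ring) (by ring) (by ring)]
  rw [etaA_vec]
  ring

include h0 h1 h2 h3 in
theorem xiNA2 : xiA r ((([2, 1, 0, 2, 1, 3, 2, 1] : List (Fin 4)).map N).prod ![1, 0, 0, 0]) = 0 := by
  simp only [List.map_cons, List.map_nil, List.prod_cons, List.prod_nil, mul_one, Module.End.mul_apply]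
  rw [sA1 h1 (a' := 1) (b' := 1) (c' := 0) (d' := 0) (by ring) (by ring) (by ring) (by ring)]
  rw [sA2 h2 (a' := -r) (b' := -r) (c' := 1) (d' := 0) (by ring) (by ring) (by ring) (by ring)]
  rw [sA3 h3 (a' := r^2) (b' := r^2) (c' := -r) (d' := 1) (by ring) (by ring) (by ring) (by ring)]
  rw [sA1 h1 (a' := r^2) (b' := r + r^2) (c' := -r) (d' := 1) (by ring) (by ring) (by ring) (by ring)]
  rw [sA2 h2 (a' := -r^3) (b' := -r^2 - r^3) (c' := r + r^2) (d' := -r) (by ring) (by ring) (by ring) (by ring)]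
  rw [sA0 h0 (a' := -r^3) (b' := -r^2 - r^3) (c' := r + r^2) (d' := -r) (by ring) (by ring) (by ring) (by ring)]
  rw [sA1 h1 (a' := -r^3) (b' := -r - r^2 - r^3) (c' := r + r^2) (d' := -r) (by ring) (by ring) (by ring) (by ring)]
  rw [sA2 h2 (a' := r^4) (b' := r^2 + r^3 + r^4) (c' := -r^2 - r^3) (d' := r^2) (by ring) (by ring) (by ring) (by ring)]
  rw [xiA_vec]
  ring

include h0 h1 h2 h3 in
theorem etaNA3 : etaA r ((([1, 2, 0, 1, 2, 3, 2, 0, 1, 2] : List (Fin 4)).map N).prod ![0, 0, 0, 1]) = -r^6 - r^8 := by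
  simp only [List.map_cons, List.map_nil, List.prod_cons, List.prod_nil, mul_one, Module.End.mul_apply]
  rw [sA2 h2 (a' := 0) (b' := 0) (c' := r) (d' := -r) (by ring) (by ring) (by ring) (by ring)]
  rw [sA1 h1 (a' := 0) (b' := -r - r^3) (c' := r) (d' := -r) (by ring) (by ring) (by ring) (by ring)]
  rw [sA0 h0 (a' := -r^2 - r^4) (b' := -r - r^3) (c' := r) (d' := -r) (by ring) (by ring) (by ring) (by ring)]
  rw [sA2 h2 (a' := r^3 + r^5) (b' := r^2 + r^4) (c' := -r^2 - r^3) (d' := r^2) (by ring) (by ring) (by ring) (by ring)]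
  rw [sA3 h3 (a' := -r^4 - r^6) (b' := -r^3 - r^5) (c' := r^3 + r^4) (d' := -r^3) (by ring) (by ring) (by ring) (by ring)]
  rw [sA2 h2 (a' := r^5 + r^7) (b' := r^4 + r^6) (c' := -r^5) (d' := r^4) (by ring) (by ring) (by ring) (by ring)]
  rw [sA1 h1 (a' := r^5 + r^7) (b' := r^5 + r^7) (c' := -r^5) (d' := r^4) (by ring) (by ring) (by ring) (by ring)]
  rw [sA0 h0 (a' := 0) (b' := r^5 + r^7) (c' := -r^5) (d' := r^4) (by ring) (by ring) (by ring) (by ring)]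
  rw [sA2 h2 (a' := 0) (b' := -r^6 - r^8) (c' := r^5 + r^7) (d' := -r^5) (by ring) (by ring) (by ring) (by ring)]
  rw [sA1 h1 (a' := 0) (b' := -r^5 - r^7) (c' := r^5 + r^7) (d' := -r^5) (by ring) (by ring) (by ring) (by ring)]
  rw [etaA_vec]
  ring

include h0 h1 h2 h3 in
theorem xiNA3 : xiA r ((([2, 1, 0, 2, 3, 2, 1, 0, 2, 1] : List (Fin 4)).map N).prod ![1, 0, 0, 0]) = r^4 := by
  simp only [List.map_cons, List.map_nil, List.prod_cons, List.prod_nil, mul_one, Module.End.mul_apply]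
  rw [sA1 h1 (a' := 1) (b' := 1) (c' := 0) (d' := 0) (by ring) (by ring) (by ring) (by ring)]
  rw [sA2 h2 (a' := -r) (b' := -r) (c' := 1) (d' := 0) (by ring) (by ring) (by ring) (by ring)]
  rw [sA0 h0 (a' := 0) (b' := -r) (c' := 1) (d' := 0) (by ring) (by ring) (by ring) (by ring)]
  rw [sA1 h1 (a' := 0) (b' := -1) (c' := 1) (d' := 0) (by ring) (by ring) (by ring) (by ring)]
  rw [sA2 h2 (a' := 0) (b' := r) (c' := 0) (d' := 0) (by ring) (by ring) (by ring) (by ring)]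
  rw [sA3 h3 (a' := 0) (b' := -r^2) (c' := 0) (d' := 0) (by ring) (by ring) (by ring) (by ring)]
  rw [sA2 h2 (a' := 0) (b' := r^3) (c' := -r^2) (d' := 0) (by ring) (by ring) (by ring) (by ring)]
  rw [sA0 h0 (a' := r^4) (b' := r^3) (c' := -r^2) (d' := 0) (by ring) (by ring) (by ring) (by ring)]
  rw [sA1 h1 (a' := r^4) (b' := r^2 + r^4) (c' := -r^2) (d' := 0) (by ring) (by ring) (by ring) (by ring)]
  rw [sA2 h2 (a' := -r^5) (b' := -r^3 - r^5) (c' := r^4) (d' := 0) (by ring) (by ring) (by ring) (by ring)]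
  rw [xiA_vec]
  ring

include h0 h1 h2 h3 in
theorem etaNA4 : etaA r ((([1, 2, 3, 1, 2, 0, 1, 2, 3, 1, 2, 0, 1, 2] : List (Fin 4)).map N).prod ![0, 0, 0, 1]) = r^8 + r^10 := by
  simp only [List.map_cons, List.map_nil, List.prod_cons, List.prod_nil, mul_one, Module.End.mul_apply]
  rw [sA2 h2 (a' := 0) (b' := 0) (c' := r) (d' := -r) (by ring) (by ring) (by ring) (by ring)]
  rw [sA1 h1 (a' := 0) (b' := -r - r^3) (c' := r) (d' := -r) (by ring) (by ring) (by ring) (by ring)]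
  rw [sA0 h0 (a' := -r^2 - r^4) (b' := -r - r^3) (c' := r) (d' := -r) (by ring) (by ring) (by ring) (by ring)]
  rw [sA2 h2 (a' := r^3 + r^5) (b' := r^2 + r^4) (c' := -r^2 - r^3) (d' := r^2) (by ring) (by ring) (by ring) (by ring)]
  rw [sA1 h1 (a' := r^3 + r^5) (b' := r^2 + r^3 + r^4 + r^5) (c' := -r^2 - r^3) (d' := r^2) (by ring) (by ring) (by ring) (by ring)]
  rw [sA3 h3 (a' := -r^4 - r^6) (b' := -r^3 - r^4 - r^5 - r^6) (c' := r^3 + r^4) (d' := -r^3) (by ring) (by ring) (by ring) (by ring)]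
  rw [sA2 h2 (a' := r^5 + r^7) (b' := r^4 + r^5 + r^6 + r^7) (c' := -r^4 - r^5 - r^6) (d' := r^4) (by ring) (by ring) (by ring) (by ring)]
  rw [sA1 h1 (a' := r^5 + r^7) (b' := r^4 + r^5 + r^6 + r^7) (c' := -r^4 - r^5 - r^6) (d' := r^4) (by ring) (by ring) (by ring) (by ring)]
  rw [sA0 h0 (a' := r^5 + r^7) (b' := r^4 + r^5 + r^6 + r^7) (c' := -r^4 - r^5 - r^6) (d' := r^4) (by ring) (by ring) (by ring) (by ring)]
  rw [sA2 h2 (a' := -r^6 - r^8) (b' := -r^5 - r^6 - r^7 - r^8) (c' := r^5 + r^7) (d' := -r^5) (by ring) (by ring) (by ring) (by ring)]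
  rw [sA1 h1 (a' := -r^6 - r^8) (b' := -r^5 - r^7) (c' := r^5 + r^7) (d' := -r^5) (by ring) (by ring) (by ring) (by ring)]
  rw [sA3 h3 (a' := r^7 + r^9) (b' := r^6 + r^8) (c' := -r^6 - r^8) (d' := r^7) (by ring) (by ring) (by ring) (by ring)]
  rw [sA2 h2 (a' := -r^8 - r^10) (b' := -r^7 - r^9) (c' := r^8) (d' := -r^8) (by ring) (by ring) (by ring) (by ring)]
  rw [sA1 h1 (a' := -r^8 - r^10) (b' := -r^8 - r^10) (c' := r^8) (d' := -r^8) (by ring) (by ring) (by ring) (by ring)]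
  rw [etaA_vec]
  ring

include h0 h1 h2 h3 in
theorem xiNA4 : xiA r ((([2, 1, 0, 2, 1, 3, 2, 1, 0, 2, 1, 3, 2, 1] : List (Fin 4)).map N).prod ![1, 0, 0, 0]) = -r^6 := by
  simp only [List.map_cons, List.map_nil, List.prod_cons, List.prod_nil, mul_one, Module.End.mul_apply]
  rw [sA1 h1 (a' := 1) (b' := 1) (c' := 0) (d' := 0) (by ring) (by ring) (by ring) (by ring)]
  rw [sA2 h2 (a' := -r) (b' := -r) (c' := 1) (d' := 0) (by ring) (by ring) (by ring) (by ring)]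
  rw [sA3 h3 (a' := r^2) (b' := r^2) (c' := -r) (d' := 1) (by ring) (by ring) (by ring) (by ring)]
  rw [sA1 h1 (a' := r^2) (b' := r + r^2) (c' := -r) (d' := 1) (by ring) (by ring) (by ring) (by ring)]
  rw [sA2 h2 (a' := -r^3) (b' := -r^2 - r^3) (c' := r + r^2) (d' := -r) (by ring) (by ring) (by ring) (by ring)]
  rw [sA0 h0 (a' := -r^3) (b' := -r^2 - r^3) (c' := r + r^2) (d' := -r) (by ring) (by ring) (by ring) (by ring)]
  rw [sA1 h1 (a' := -r^3) (b' := -r - r^2 - r^3) (c' := r + r^2) (d' := -r) (by ring) (by ring) (by ring) (by ring)]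
  rw [sA2 h2 (a' := r^4) (b' := r^2 + r^3 + r^4) (c' := -r^2 - r^3) (d' := r^2) (by ring) (by ring) (by ring) (by ring)]
  rw [sA3 h3 (a' := -r^5) (b' := -r^3 - r^4 - r^5) (c' := r^3 + r^4) (d' := -r^3) (by ring) (by ring) (by ring) (by ring)]
  rw [sA1 h1 (a' := -r^5) (b' := -r^3 - r^5) (c' := r^3 + r^4) (d' := -r^3) (by ring) (by ring) (by ring) (by ring)]
  rw [sA2 h2 (a' := r^6) (b' := r^4 + r^6) (c' := -r^5) (d' := r^4) (by ring) (by ring) (by ring) (by ring)]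
  rw [sA0 h0 (a' := r^5) (b' := r^4 + r^6) (c' := -r^5) (d' := r^4) (by ring) (by ring) (by ring) (by ring)]
  rw [sA1 h1 (a' := r^5) (b' := r^5) (c' := -r^5) (d' := r^4) (by ring) (by ring) (by ring) (by ring)]
  rw [sA2 h2 (a' := -r^6) (b' := -r^6) (c' := r^5) (d' := -r^5) (by ring) (by ring) (by ring) (by ring)]
  rw [xiA_vec]
  ring

end A

section B

variable (h0 : ∀ x, N 0 x = ![x 0 + r * x 1, -r * x 1, -r * x 2, -r * x 3]) (h1 : ∀ x, N 1 x = ![-r * x 0, x 0 + x 1 - (1 + r^2) * x 2, -r * x 2, -r * x 3]) (h2 : ∀ x, N 2 x = ![x 0, x 1, x 1 - r * x 2 + r * x 3, x 3]) (h3 : ∀ x, N 3 x = ![x 0, x 1, x 2, x 2 - r * x 3])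

include h0 in
theorem sB0 {a b c d a' b' c' d' : ℂ} (e0 : a + r * b = a') (e1 : -r * b = b') (e2 : -r * c = c') (e3 : -r * d = d') :
    N 0 ![a, b, c, d] = ![a', b', c', d'] := by
  rw [h0, ← e0, ← e1, ← e2, ← e3]
  rfl

include h1 in
theorem sB1 {a b c d a' b' c' d' : ℂ} (e0 : -r * a = a') (e1 : a + b - (1 + r^2) * c = b') (e2 : -r * c = c') (e3 : -r * d = d') :
    N 1 ![a, b, c, d] = ![a', b', c', d'] := by
  rw [h1, ← e0, ← e1, ← e2, ← e3]
  rfl

include h2 in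
theorem sB2 {a b c d a' b' c' d' : ℂ} (e0 : a = a') (e1 : b = b') (e2 : b - r * c + r * d = c') (e3 : d = d') :
    N 2 ![a, b, c, d] = ![a', b', c', d'] := by
  rw [h2, ← e0, ← e1, ← e2, ← e3]
  rfl

include h3 in
theorem sB3 {a b c d a' b' c' d' : ℂ} (e0 : a = a') (e1 : b = b') (e2 : c = c') (e3 : c - r * d = d') :
    N 3 ![a, b, c, d] = ![a', b', c', d'] := by
  rw [h3, ← e0, ← e1, ← e2, ← e3]
  rfl

include h0 in
theorem xiB_0 (x : Fin 4 → ℂ) : xiB r (N 0 x) = xiB r x := by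
  rw [h0, xiB_vec, xiB_apply] <;> ring

include h2 in
theorem xiB_2 (x : Fin 4 → ℂ) : xiB r (N 2 x) = xiB r x := by
  rw [h2, xiB_vec, xiB_apply] <;> ring

include h3 in
theorem xiB_3 (x : Fin 4 → ℂ) : xiB r (N 3 x) = xiB r x := by
  rw [h3, xiB_vec, xiB_apply] <;> ring

include h0 in
theorem etaB_0 (x : Fin 4 → ℂ) : etaB r (N 0 x) = -r * etaB r x := by
  rw [h0, etaB_vec, etaB_apply] <;> ring

include h1 in
theorem etaB_1 (x : Fin 4 → ℂ) : etaB r (N 1 x) = -r * etaB r x := by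
  rw [h1, etaB_vec, etaB_apply] <;> ring

include h3 in
theorem etaB_3 (x : Fin 4 → ℂ) : etaB r (N 3 x) = -r * etaB r x := by
  rw [h3, etaB_vec, etaB_apply] <;> ring

include h0 in
theorem vB_0 : N 0 ![1, 0, 0, 0] = ![1, 0, 0, 0] := by
  exact sB0 h0 (by ring) (by ring) (by ring) (by ring)

include h2 in
theorem vB_2 : N 2 ![1, 0, 0, 0] = ![1, 0, 0, 0] := by
  exact sB2 h2 (by ring) (by ring) (by ring) (by ring)

include h3 in
theorem vB_3 : N 3 ![1, 0, 0, 0] = ![1, 0, 0, 0] := by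
  exact sB3 h3 (by ring) (by ring) (by ring) (by ring)

include h0 in
theorem uB_0 : N 0 ![0, 0, 0, 1] = (-r) • ![0, 0, 0, 1] := by
  rw [sB0 h0 (a' := -r * 0) (b' := -r * 0) (c' := -r * 0) (d' := -r * 1) (by ring) (by ring) (by ring) (by ring)]
  ext i
  fin_cases i <;> simp

include h1 in
theorem uB_1 : N 1 ![0, 0, 0, 1] = (-r) • ![0, 0, 0, 1] := by
  rw [sB1 h1 (a' := -r * 0) (b' := -r * 0) (c' := -r * 0) (d' := -r * 1) (by ring) (by ring) (by ring) (by ring)]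
  ext i
  fin_cases i <;> simp

include h3 in
theorem uB_3 : N 3 ![0, 0, 0, 1] = (-r) • ![0, 0, 0, 1] := by
  rw [sB3 h3 (a' := -r * 0) (b' := -r * 0) (c' := -r * 0) (d' := -r * 1) (by ring) (by ring) (by ring) (by ring)]
  ext i
  fin_cases i <;> simp

include h1 h2 in
theorem etaNB0 : etaB r ((([2, 1] : List (Fin 4)).map N).prod ![1, 0, 0, 0]) = 1 := by
  simp only [List.map_cons, List.map_nil, List.prod_cons, List.prod_nil, mul_one, Module.End.mul_apply]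
  rw [sB1 h1 (a' := -r) (b' := 1) (c' := 0) (d' := 0) (by ring) (by ring) (by ring) (by ring)]
  rw [sB2 h2 (a' := -r) (b' := 1) (c' := 1) (d' := 0) (by ring) (by ring) (by ring) (by ring)]
  rw [etaB_vec]
  ring

include h1 h2 in
theorem xiNB0 : xiB r ((([1, 2] : List (Fin 4)).map N).prod ![0, 0, 0, 1]) = -r^2 - r^4 := by
  simp only [List.map_cons, List.map_nil, List.prod_cons, List.prod_nil, mul_one, Module.End.mul_apply]
  rw [sB2 h2 (a' := 0) (b' := 0) (c' := r) (d' := 1) (by ring) (by ring) (by ring) (by ring)]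
  rw [sB1 h1 (a' := 0) (b' := -r - r^3) (c' := -r^2) (d' := -r) (by ring) (by ring) (by ring) (by ring)]
  rw [xiB_vec]
  ring

include h0 h1 h2 h3 in
theorem etaNB1 : etaB r ((([2, 3, 1, 2, 0, 1] : List (Fin 4)).map N).prod ![1, 0, 0, 0]) = -r^2 := by
  simp only [List.map_cons, List.map_nil, List.prod_cons, List.prod_nil, mul_one, Module.End.mul_apply]
  rw [sB1 h1 (a' := -r) (b' := 1) (c' := 0) (d' := 0) (by ring) (by ring) (by ring) (by ring)]
  rw [sB0 h0 (a' := 0) (b' := -r) (c' := 0) (d' := 0) (by ring) (by ring) (by ring) (by ring)]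
  rw [sB2 h2 (a' := 0) (b' := -r) (c' := -r) (d' := 0) (by ring) (by ring) (by ring) (by ring)]
  rw [sB1 h1 (a' := 0) (b' := r^3) (c' := r^2) (d' := 0) (by ring) (by ring) (by ring) (by ring)]
  rw [sB3 h3 (a' := 0) (b' := r^3) (c' := r^2) (d' := r^2) (by ring) (by ring) (by ring) (by ring)]
  rw [sB2 h2 (a' := 0) (b' := r^3) (c' := r^3) (d' := r^2) (by ring) (by ring) (by ring) (by ring)]
  rw [etaB_vec]
  ring

include h0 h1 h2 h3 in
theorem xiNB1 : xiB r ((([1, 0, 2, 1, 3, 2] : List (Fin 4)).map N).prod ![0, 0, 0, 1]) = r^4 + r^6 := by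
  simp only [List.map_cons, List.map_nil, List.prod_cons, List.prod_nil, mul_one, Module.End.mul_apply]
  rw [sB2 h2 (a' := 0) (b' := 0) (c' := r) (d' := 1) (by ring) (by ring) (by ring) (by ring)]
  rw [sB3 h3 (a' := 0) (b' := 0) (c' := r) (d' := 0) (by ring) (by ring) (by ring) (by ring)]
  rw [sB1 h1 (a' := 0) (b' := -r - r^3) (c' := -r^2) (d' := 0) (by ring) (by ring) (by ring) (by ring)]
  rw [sB2 h2 (a' := 0) (b' := -r - r^3) (c' := -r) (d' := 0) (by ring) (by ring) (by ring) (by ring)]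
  rw [sB0 h0 (a' := -r^2 - r^4) (b' := r^2 + r^4) (c' := r^2) (d' := 0) (by ring) (by ring) (by ring) (by ring)]
  rw [sB1 h1 (a' := r^3 + r^5) (b' := -r^2 - r^4) (c' := -r^3) (d' := 0) (by ring) (by ring) (by ring) (by ring)]
  rw [xiB_vec]
  ring

include h0 h1 h2 h3 in
theorem etaNB2 : etaB r ((([2, 1, 2, 3, 0, 1, 2, 1] : List (Fin 4)).map N).prod ![1, 0, 0, 0]) = 0 := by
  simp only [List.map_cons, List.map_nil, List.prod_cons, List.prod_nil, mul_one, Module.End.mul_apply]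
  rw [sB1 h1 (a' := -r) (b' := 1) (c' := 0) (d' := 0) (by ring) (by ring) (by ring) (by ring)]
  rw [sB2 h2 (a' := -r) (b' := 1) (c' := 1) (d' := 0) (by ring) (by ring) (by ring) (by ring)]
  rw [sB1 h1 (a' := r^2) (b' := -r - r^2) (c' := -r) (d' := 0) (by ring) (by ring) (by ring) (by ring)]
  rw [sB0 h0 (a' := -r^3) (b' := r^2 + r^3) (c' := r^2) (d' := 0) (by ring) (by ring) (by ring) (by ring)]
  rw [sB3 h3 (a' := -r^3) (b' := r^2 + r^3) (c' := r^2) (d' := r^2) (by ring) (by ring) (by ring) (by ring)]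
  rw [sB2 h2 (a' := -r^3) (b' := r^2 + r^3) (c' := r^2 + r^3) (d' := r^2) (by ring) (by ring) (by ring) (by ring)]
  rw [sB1 h1 (a' := r^4) (b' := -r^3 - r^4 - r^5) (c' := -r^3 - r^4) (d' := -r^3) (by ring) (by ring) (by ring) (by ring)]
  rw [sB2 h2 (a' := r^4) (b' := -r^3 - r^4 - r^5) (c' := -r^3 - r^4) (d' := -r^3) (by ring) (by ring) (by ring) (by ring)]
  rw [etaB_vec]
  ring

include h0 h1 h2 h3 in
theorem xiNB2 : xiB r ((([1, 2, 1, 0, 3, 2, 1, 2] : List (Fin 4)).map N).prod ![0, 0, 0, 1]) = 0 := by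
  simp only [List.map_cons, List.map_nil, List.prod_cons, List.prod_nil, mul_one, Module.End.mul_apply]
  rw [sB2 h2 (a' := 0) (b' := 0) (c' := r) (d' := 1) (by ring) (by ring) (by ring) (by ring)]
  rw [sB1 h1 (a' := 0) (b' := -r - r^3) (c' := -r^2) (d' := -r) (by ring) (by ring) (by ring) (by ring)]
  rw [sB2 h2 (a' := 0) (b' := -r - r^3) (c' := -r - r^2) (d' := -r) (by ring) (by ring) (by ring) (by ring)]
  rw [sB3 h3 (a' := 0) (b' := -r - r^3) (c' := -r - r^2) (d' := -r) (by ring) (by ring) (by ring) (by ring)]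
  rw [sB0 h0 (a' := -r^2 - r^4) (b' := r^2 + r^4) (c' := r^2 + r^3) (d' := r^2) (by ring) (by ring) (by ring) (by ring)]
  rw [sB1 h1 (a' := r^3 + r^5) (b' := -r^2 - r^3 - r^4 - r^5) (c' := -r^3 - r^4) (d' := -r^3) (by ring) (by ring) (by ring) (by ring)]
  rw [sB2 h2 (a' := r^3 + r^5) (b' := -r^2 - r^3 - r^4 - r^5) (c' := -r^2 - r^3 - r^4) (d' := -r^3) (by ring) (by ring) (by ring) (by ring)]
  rw [sB1 h1 (a' := -r^4 - r^6) (b' := r^3 + r^4 + r^5 + r^6) (c' := r^3 + r^4 + r^5) (d' := r^4) (by ring) (by ring) (by ring) (by ring)]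
  rw [xiB_vec]
  ring

include h0 h1 h2 h3 in
theorem etaNB3 : etaB r ((([2, 1, 2, 3, 2, 0, 1, 2, 0, 1] : List (Fin 4)).map N).prod ![1, 0, 0, 0]) = r^4 := by
  simp only [List.map_cons, List.map_nil, List.prod_cons, List.prod_nil, mul_one, Module.End.mul_apply]
  rw [sB1 h1 (a' := -r) (b' := 1) (c' := 0) (d' := 0) (by ring) (by ring) (by ring) (by ring)]
  rw [sB0 h0 (a' := 0) (b' := -r) (c' := 0) (d' := 0) (by ring) (by ring) (by ring) (by ring)]
  rw [sB2 h2 (a' := 0) (b' := -r) (c' := -r) (d' := 0) (by ring) (by ring) (by ring) (by ring)]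
  rw [sB1 h1 (a' := 0) (b' := r^3) (c' := r^2) (d' := 0) (by ring) (by ring) (by ring) (by ring)]
  rw [sB0 h0 (a' := r^4) (b' := -r^4) (c' := -r^3) (d' := 0) (by ring) (by ring) (by ring) (by ring)]
  rw [sB2 h2 (a' := r^4) (b' := -r^4) (c' := 0) (d' := 0) (by ring) (by ring) (by ring) (by ring)]
  rw [sB3 h3 (a' := r^4) (b' := -r^4) (c' := 0) (d' := 0) (by ring) (by ring) (by ring) (by ring)]
  rw [sB2 h2 (a' := r^4) (b' := -r^4) (c' := -r^4) (d' := 0) (by ring) (by ring) (by ring) (by ring)]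
  rw [sB1 h1 (a' := -r^5) (b' := r^4 + r^6) (c' := r^5) (d' := 0) (by ring) (by ring) (by ring) (by ring)]
  rw [sB2 h2 (a' := -r^5) (b' := r^4 + r^6) (c' := r^4) (d' := 0) (by ring) (by ring) (by ring) (by ring)]
  rw [etaB_vec]
  ring

include h0 h1 h2 h3 in
theorem xiNB3 : xiB r ((([1, 0, 2, 1, 0, 2, 3, 2, 1, 2] : List (Fin 4)).map N).prod ![0, 0, 0, 1]) = -r^6 - r^8 := by
  simp only [List.map_cons, List.map_nil, List.prod_cons, List.prod_nil, mul_one, Module.End.mul_apply]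
  rw [sB2 h2 (a' := 0) (b' := 0) (c' := r) (d' := 1) (by ring) (by ring) (by ring) (by ring)]
  rw [sB1 h1 (a' := 0) (b' := -r - r^3) (c' := -r^2) (d' := -r) (by ring) (by ring) (by ring) (by ring)]
  rw [sB2 h2 (a' := 0) (b' := -r - r^3) (c' := -r - r^2) (d' := -r) (by ring) (by ring) (by ring) (by ring)]
  rw [sB3 h3 (a' := 0) (b' := -r - r^3) (c' := -r - r^2) (d' := -r) (by ring) (by ring) (by ring) (by ring)]
  rw [sB2 h2 (a' := 0) (b' := -r - r^3) (c' := -r) (d' := -r) (by ring) (by ring) (by ring) (by ring)]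
  rw [sB0 h0 (a' := -r^2 - r^4) (b' := r^2 + r^4) (c' := r^2) (d' := r^2) (by ring) (by ring) (by ring) (by ring)]
  rw [sB1 h1 (a' := r^3 + r^5) (b' := -r^2 - r^4) (c' := -r^3) (d' := -r^3) (by ring) (by ring) (by ring) (by ring)]
  rw [sB2 h2 (a' := r^3 + r^5) (b' := -r^2 - r^4) (c' := -r^2 - r^4) (d' := -r^3) (by ring) (by ring) (by ring) (by ring)]
  rw [sB0 h0 (a' := 0) (b' := r^3 + r^5) (c' := r^3 + r^5) (d' := r^4) (by ring) (by ring) (by ring) (by ring)]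
  rw [sB1 h1 (a' := 0) (b' := -r^5 - r^7) (c' := -r^4 - r^6) (d' := -r^5) (by ring) (by ring) (by ring) (by ring)]
  rw [xiB_vec]
  ring

include h0 h1 h2 h3 in
theorem etaNB4 : etaB r ((([2, 3, 1, 2, 0, 1, 2, 3, 2, 0, 1, 2, 0, 1] : List (Fin 4)).map N).prod ![1, 0, 0, 0]) = -r^6 := by
  simp only [List.map_cons, List.map_nil, List.prod_cons, List.prod_nil, mul_one, Module.End.mul_apply]
  rw [sB1 h1 (a' := -r) (b' := 1) (c' := 0) (d' := 0) (by ring) (by ring) (by ring) (by ring)]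
  rw [sB0 h0 (a' := 0) (b' := -r) (c' := 0) (d' := 0) (by ring) (by ring) (by ring) (by ring)]
  rw [sB2 h2 (a' := 0) (b' := -r) (c' := -r) (d' := 0) (by ring) (by ring) (by ring) (by ring)]
  rw [sB1 h1 (a' := 0) (b' := r^3) (c' := r^2) (d' := 0) (by ring) (by ring) (by ring) (by ring)]
  rw [sB0 h0 (a' := r^4) (b' := -r^4) (c' := -r^3) (d' := 0) (by ring) (by ring) (by ring) (by ring)]
  rw [sB2 h2 (a' := r^4) (b' := -r^4) (c' := 0) (d' := 0) (by ring) (by ring) (by ring) (by ring)]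
  rw [sB3 h3 (a' := r^4) (b' := -r^4) (c' := 0) (d' := 0) (by ring) (by ring) (by ring) (by ring)]
  rw [sB2 h2 (a' := r^4) (b' := -r^4) (c' := -r^4) (d' := 0) (by ring) (by ring) (by ring) (by ring)]
  rw [sB1 h1 (a' := -r^5) (b' := r^4 + r^6) (c' := r^5) (d' := 0) (by ring) (by ring) (by ring) (by ring)]
  rw [sB0 h0 (a' := r^7) (b' := -r^5 - r^7) (c' := -r^6) (d' := 0) (by ring) (by ring) (by ring) (by ring)]
  rw [sB2 h2 (a' := r^7) (b' := -r^5 - r^7) (c' := -r^5) (d' := 0) (by ring) (by ring) (by ring) (by ring)]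
  rw [sB1 h1 (a' := -r^8) (b' := r^7) (c' := r^6) (d' := 0) (by ring) (by ring) (by ring) (by ring)]
  rw [sB3 h3 (a' := -r^8) (b' := r^7) (c' := r^6) (d' := r^6) (by ring) (by ring) (by ring) (by ring)]
  rw [sB2 h2 (a' := -r^8) (b' := r^7) (c' := r^7) (d' := r^6) (by ring) (by ring) (by ring) (by ring)]
  rw [etaB_vec]
  ring

include h0 h1 h2 h3 in
theorem xiNB4 : xiB r ((([1, 0, 2, 1, 0, 2, 3, 2, 1, 0, 2, 1, 3, 2] : List (Fin 4)).map N).prod ![0, 0, 0, 1]) = r^8 + r^10 := by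
  simp only [List.map_cons, List.map_nil, List.prod_cons, List.prod_nil, mul_one, Module.End.mul_apply]
  rw [sB2 h2 (a' := 0) (b' := 0) (c' := r) (d' := 1) (by ring) (by ring) (by ring) (by ring)]
  rw [sB3 h3 (a' := 0) (b' := 0) (c' := r) (d' := 0) (by ring) (by ring) (by ring) (by ring)]
  rw [sB1 h1 (a' := 0) (b' := -r - r^3) (c' := -r^2) (d' := 0) (by ring) (by ring) (by ring) (by ring)]
  rw [sB2 h2 (a' := 0) (b' := -r - r^3) (c' := -r) (d' := 0) (by ring) (by ring) (by ring) (by ring)]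
  rw [sB0 h0 (a' := -r^2 - r^4) (b' := r^2 + r^4) (c' := r^2) (d' := 0) (by ring) (by ring) (by ring) (by ring)]
  rw [sB1 h1 (a' := r^3 + r^5) (b' := -r^2 - r^4) (c' := -r^3) (d' := 0) (by ring) (by ring) (by ring) (by ring)]
  rw [sB2 h2 (a' := r^3 + r^5) (b' := -r^2 - r^4) (c' := -r^2) (d' := 0) (by ring) (by ring) (by ring) (by ring)]
  rw [sB3 h3 (a' := r^3 + r^5) (b' := -r^2 - r^4) (c' := -r^2) (d' := -r^2) (by ring) (by ring) (by ring) (by ring)]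
  rw [sB2 h2 (a' := r^3 + r^5) (b' := -r^2 - r^4) (c' := -r^2 - r^4) (d' := -r^2) (by ring) (by ring) (by ring) (by ring)]
  rw [sB0 h0 (a' := 0) (b' := r^3 + r^5) (c' := r^3 + r^5) (d' := r^3) (by ring) (by ring) (by ring) (by ring)]
  rw [sB1 h1 (a' := 0) (b' := -r^5 - r^7) (c' := -r^4 - r^6) (d' := -r^4) (by ring) (by ring) (by ring) (by ring)]
  rw [sB2 h2 (a' := 0) (b' := -r^5 - r^7) (c' := -r^5) (d' := -r^4) (by ring) (by ring) (by ring) (by ring)]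
  rw [sB0 h0 (a' := -r^6 - r^8) (b' := r^6 + r^8) (c' := r^6) (d' := r^5) (by ring) (by ring) (by ring) (by ring)]
  rw [sB1 h1 (a' := r^7 + r^9) (b' := -r^6 - r^8) (c' := -r^7) (d' := -r^6) (by ring) (by ring) (by ring) (by ring)]
  rw [xiB_vec]
  ring

end B


/-- the sum over the five double cosets, module `(+,-)` -/
theorem total_A {q r : ℂ} (h : q * r = 1) :
    q ^ 2 * ((-r^2 - r^4) * 1) + q ^ 6 * ((r^4 + r^6) * (-r^2)) + q ^ 8 * (0 * 0) + q ^ 10 * ((-r^6 - r^8) * r^4) +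
      q ^ 14 * ((r^8 + r^10) * (-r^6)) = -4 * (1 + r ^ 2) := by
  have h2 : q ^ 2 * r ^ 2 = 1 := by rw [← mul_pow, h, one_pow]
  have h6 : q ^ 6 * r ^ 6 = 1 := by rw [← mul_pow, h, one_pow]
  have h10 : q ^ 10 * r ^ 10 = 1 := by rw [← mul_pow, h, one_pow]
  have h14 : q ^ 14 * r ^ 14 = 1 := by rw [← mul_pow, h, one_pow]
  linear_combination (-(1 + r^2)) * h2 + (-(1 + r^2)) * h6 + (-(1 + r^2)) * h10 + (-(1 + r^2)) * h14

/-- the sum over the five double cosets, module `(-,+)` -/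
theorem total_B {q r : ℂ} (h : q * r = 1) :
    q ^ 2 * (1 * (-r^2 - r^4)) + q ^ 6 * ((-r^2) * (r^4 + r^6)) + q ^ 8 * (0 * 0) + q ^ 10 * (r^4 * (-r^6 - r^8)) +
      q ^ 14 * ((-r^6) * (r^8 + r^10)) = -4 * (1 + r ^ 2) := by
  rw [← total_A h]
  ring

/-- **The degree.** `D * (P_J(q) P_J'(r) S) = P_W(q) η(u) ξ(v)` with `S = -4 (1 + r²)`. -/
theorem degree_eq {q r D S : ℂ} (h : q * r = 1) (h1 : 1 + q ≠ 0) (h2 : 1 + q + q ^ 2 ≠ 0) (h3 : 1 + q ^ 2 ≠ 0)
    (hS : S = -4 * (1 + r ^ 2))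
    (hD : D * ((1 + q) ^ 2 * (1 + q + q ^ 2) * ((1 + r) ^ 2 * (1 + r + r ^ 2)) * S) =
      (1 + q) ^ 4 * (1 + q + q ^ 2) ^ 2 * (1 + q ^ 2) ^ 2 * (1 - q + q ^ 2) ^ 2 * (1 + q ^ 4) * (1 - q ^ 2 + q ^ 4) *
        ((-1 - r) * (1 + r))) :
    4 * D = q ^ 4 * (1 + q) ^ 2 * (1 + q ^ 2) * (1 - q + q ^ 2) ^ 2 * (1 + q ^ 4) * (1 - q ^ 2 + q ^ 4) := by
  have e1 : 1 + r = r * (1 + q) := by linear_combination (-1) * h
  have e2 : 1 + r + r ^ 2 = r ^ 2 * (1 + q + q ^ 2) := by linear_combination (-(q * r + 1) - r) * h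
  have e3 : 1 + r ^ 2 = r ^ 2 * (1 + q ^ 2) := by linear_combination (-(q * r + 1)) * h
  have h4 : (1 + q) ^ 4 * (1 + q + q ^ 2) ^ 2 * (1 + q ^ 2) ≠ 0 :=
    mul_ne_zero (mul_ne_zero (pow_ne_zero _ h1) (pow_ne_zero _ h2)) h3
  have h5 : q ^ 2 * r ^ 2 = 1 := by rw [← mul_pow, h, one_pow]
  have h6 : q ^ 6 * r ^ 6 = 1 := by rw [← mul_pow, h, one_pow]
  rw [hS, e2, e3, show (-1 - r : ℂ) = -(1 + r) by ring, e1] at hD
  refine mul_left_cancel₀ h4 ?_
  linear_combination (-(q ^ 6)) * hD - 4 * D * ((1 + q) ^ 4 * (1 + q + q ^ 2) ^ 2 * (1 + q ^ 2)) * h6 +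
    q ^ 4 * (1 + q) ^ 2 * ((1 + q) ^ 4 * (1 + q + q ^ 2) ^ 2 * (1 + q ^ 2) ^ 2 * (1 - q + q ^ 2) ^ 2 * (1 + q ^ 4) *
      (1 - q ^ 2 + q ^ 4)) * h5

end Cfsg.Agent.H448.FF
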